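import Cfsg.Agent.H455.Cov.Tool
import Cfsg.Agent.H257.El.Row.Fi23
import Cfsg.Agent.H839.Thirteen
import Cfsg.Agent.H375.LThree.Spec
import Cfsg.Agent.H180.ElSuz

/-!
# S2499: `Fi23` (helper153)

Elements of orders 23, 17, 13: no proper subgroup has order divisible by two of these primes.  `PSL₃(16)`, which is
left by the engine for 17 and 13, has an element of order 91, and `|N(X)| = 468` for `|X| = 13`.
-/

set_option autoImplicit false

namespace Cfsg.Agent.H153.Cov

open Cfsg Subgroup Cfsg.Agent.OrdDiv Cfsg.Agent.H278.Cov Cfsg.Agent.H455.Cov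
open Cfsg.Spor (Fi23)

/-- the factorisation of the order of `Fi23` -/
def l23 : List (ℕ × ℕ) := [(2, 18), (3, 13), (5, 2), (7, 1), (11, 1), (13, 1), (17, 1), (23, 1)]

theorem card_norm13 (X : Subgroup Fi23) (hX : Nat.card X = 13) :
    Nat.card (normalizer (X : Set Fi23)) = 468 := by
  obtain ⟨F, h1, -, -, h4, h5, h6, ⟨h7⟩⟩ := H839.Fi23.thirteen_main X hX
  rw [← h6, H839.Count.card_sup_of_comm h5 h4, h1, Nat.card_congr h7.toEquiv, Nat.card_eq_fintype_card,
    Fintype.card_perm, Fintype.card_fin]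
  decide

theorem noOrd91 (z : Fi23) : orderOf z ≠ 13 * 7 := by
  refine H257.El.noOrd_of_noComm (by norm_num) (by norm_num) (fun x y hx hy hxy => ?_) z
  have h1 := card_norm13 (zpowers x) (by rw [Nat.card_zpowers, hx])
  have h2 : y ∈ centralizer ((zpowers x : Subgroup Fi23) : Set Fi23) := by
    rw [mem_centralizer_iff]
    rintro _ ⟨m, rfl⟩
    exact ((Commute.zpow_left (show Commute x y from hxy) m)).eq
  have h3 := Subgroup.orderOf_dvd_natCard _ (centralizer_le_normalizer _ h2)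
  rw [hy, h1] at h3
  exact absurd h3 (by norm_num)

theorem noOrd_17 (s : ℕ) (hs : s.Prime) (h17 : 17 ≠ s) (z : Fi23) : orderOf z ≠ 17 * s := by
  have hc := NotCT.Orders.fi23 (K := Fi23) ⟨MulEquiv.refl _⟩
  have : Finite Fi23 := Nat.finite_of_card_ne_zero (by rw [hc]; norm_num)
  refine H257.El.noOrd_of_cent (by norm_num) (fun x hx => ?_) hs h17 z
  obtain ⟨-, h2⟩ := H839.Fi23.seventeen_main (zpowers x) (by rw [Nat.card_zpowers, hx])
  rw [H729.PairBase.centralizer_zpowers_eq] at h2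
  rw [h2, Nat.card_zpowers, hx]

theorem noOrd_23 (s : ℕ) (hs : s.Prime) (h23 : 23 ≠ s) (z : Fi23) : orderOf z ≠ 23 * s := by
  have hc := NotCT.Orders.fi23 (K := Fi23) ⟨MulEquiv.refl _⟩
  have : Finite Fi23 := Nat.finite_of_card_ne_zero (by rw [hc]; norm_num)
  refine H257.El.noOrd_of_cent (by norm_num) (fun x hx => ?_) hs h23 z
  obtain ⟨-, h2⟩ := H839.Fi23.twentythree_main (zpowers x) (by rw [Nat.card_zpowers, hx])
  rw [H729.PairBase.centralizer_zpowers_eq] at h2
  rw [h2, Nat.card_zpowers, hx]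

/-- `PSL₃(16)` has an element of order 91 -/
theorem exists_91 {S : Type*} [Group S] (h : Real (.psl 3 16) S) : ∃ x : S, orderOf x = 13 * 7 := by
  obtain ⟨F, _, _, hF, ⟨e⟩⟩ := h
  obtain ⟨x, hx⟩ := H375.LThree.exists_order_nn (F := F)
  refine ⟨e.symm x, ?_⟩
  rw [MulEquiv.orderOf_eq, hx, hF]
  decide

theorem bad_17_13 (tab : OrderTable.{0}) (known : H257.El.Known.{0}) {T : Type} [Group T] [Finite T]
    (h : Spor.IsoFi23 T) : Bad T 17 13 := by
  have hc := NotCT.Orders.fi23 h
  obtain ⟨e⟩ := h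
  intro R hR h17 h13
  obtain ⟨O, hO, N, ht, -, g, hg, hr, -⟩ := H180.ElS.exists_surv_of_dvd tab known (T := T) (r := 17) (s := 13)
    (l := l23) hc (by decide +kernel) (by norm_num) (by norm_num)
    (H257.El.noOrd_congr e (noOrd_17 13 (by norm_num) (by norm_num))) (by decide +kernel) (by norm_num) hR h17 h13
  have h1 : ((H257.El.surv 4089470473293004800 l23 17 [13]).all fun g => g == .psl 3 16) = true := by
    decide +kernel
  rw [List.all_eq_true] at h1
  have h2 : g = .psl 3 16 := by simpa using h1 g hg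
  subst h2
  obtain ⟨z, hz⟩ := H180.ElS.exists_orderOf (exists_91 hr)
  exact H257.El.noOrd_congr e noOrd91 z hz

theorem noTwo_fi23 (tab : OrderTable.{0}) (known : H257.El.Known.{0}) {T : Type} [Group T] [Finite T]
    (h : Spor.IsoFi23 T) : NoTwo T := by
  have hc := NotCT.Orders.fi23 h
  have hb := bad_17_13 tab known h
  obtain ⟨e⟩ := h
  have hW : ∀ w ∈ [17, 13], w.Prime ∧ w ∣ Nat.card T ∧ 23 ≠ w := by
    intro w hw
    simp only [List.mem_cons, List.not_mem_nil, or_false] at hw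
    rw [hc]
    rcases hw with rfl | rfl <;> norm_num
  refine noTwo_of_miss (a := 23) (W := [17, 13]) (by norm_num) (by rw [hc]; norm_num)
    (fun w hw => ⟨(hW w hw).1, (hW w hw).2.1⟩) ?_ hb.miss
  exact bad_of_chkW tab known (l := l23) hc (by norm_num) (fun w hw => (hW w hw).1)
    (fun w hw => H257.El.noOrd_congr e (noOrd_23 w (hW w hw).1 (hW w hw).2.2)) (by decide +kernel)

end Cfsg.Agent.H153.Cov
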